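/-
Additive spread sets in characteristic 2 which contain 1 and are closed under inversion.
Main results: `IsSpread`, `IsSpread.mul_mul_mem` (Hua), `IsSpread.pow_mem`,
`IsSpread.orderOf_dvd`, `IsSpread.odd_orderOf`, `IsSpread.commute_of_order` (an element of
primitive order makes the set commutative).
-/
import Cfsg.Agent.EqLemmas
import Mathlib.Algebra.Group.Subgroup.Finite
import Mathlib.GroupTheory.OrderOfElement

set_option autoImplicit false

namespace Cfsg.Agent.SpreadField

variable {A : Type*} [AddCommGroup A]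

/-- An additive set of endomorphisms of cardinality `|A|`, non-zero members invertible inside it. -/
structure IsSpread (C : AddSubgroup (AddMonoid.End A)) : Prop where
  two : ∀ a : A, a + a = 0
  nontrivial : Nontrivial A
  card_eq : Nat.card C = Nat.card A
  one_mem : (1 : AddMonoid.End A) ∈ C
  inv_mem : ∀ c ∈ C, c ≠ 0 → ∃ d ∈ C, c * d = 1 ∧ d * c = 1

namespace IsSpread

variable {C : AddSubgroup (AddMonoid.End A)}

theorem one_ne_zero (hC : IsSpread C) : (1 : AddMonoid.End A) ≠ 0 := by
  have := hC.nontrivial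
  obtain ⟨a, ha⟩ := exists_ne (0 : A)
  exact fun h => ha (DFunLike.congr_fun h a)

theorem unit_inv_mem (hC : IsSpread C) {u : (AddMonoid.End A)ˣ}
    (hu : (u : AddMonoid.End A) ∈ C) : ((u⁻¹ : (AddMonoid.End A)ˣ) : AddMonoid.End A) ∈ C := by
  obtain ⟨d, hd, h1, -⟩ := hC.inv_mem _ hu fun h => hC.one_ne_zero (by rw [← u.inv_mul, h, mul_zero])
  rwa [← (left_inv_eq_right_inv u.inv_mul h1)] at hd

theorem exists_unit (hC : IsSpread C) {c : AddMonoid.End A} (hc : c ∈ C) (h0 : c ≠ 0) :
    ∃ u : (AddMonoid.End A)ˣ, (u : AddMonoid.End A) = c := by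
  obtain ⟨d, -, h1, h2⟩ := hC.inv_mem c hc h0
  exact ⟨⟨c, d, h1, h2⟩, rfl⟩

/-- Hua's identity: `C` is closed under `(a, b) ↦ a b a`. -/
theorem mul_mul_mem (hC : IsSpread C) {a b : AddMonoid.End A} (ha : a ∈ C) (hb : b ∈ C) :
    a * b * a ∈ C := by
  by_cases hb0 : b = 0
  · rw [hb0, mul_zero, zero_mul]; exact C.zero_mem
  by_cases ha0 : a = 0
  · rw [ha0, mul_zero]; exact C.zero_mem
  obtain ⟨b', hb', hb1, hb2⟩ := hC.inv_mem b hb hb0
  obtain ⟨a', ha', ha1, ha2⟩ := hC.inv_mem a ha ha0
  by_cases hx0 : b' - a = 0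
  · have e : a = b' := (sub_eq_zero.1 hx0).symm
    have e1 : a * b * a = a := by rw [e, hb2, one_mul]
    rw [e1]; exact ha
  obtain ⟨x', hx', hx1, hx2⟩ := hC.inv_mem _ (C.sub_mem hb' ha) hx0
  have hs : (a' + x') * ((b' - a) * b * a) = 1 := by
    rw [show (a' + x') * ((b' - a) * b * a) =
      a' * (b' * b) * a - a' * a * (b * a) + x' * (b' - a) * (b * a) by noncomm_ring]
    rw [hb2, ha2, hx2]
    simp [ha2]
  have hs0 : a' + x' ≠ 0 := fun h => hC.one_ne_zero (by rw [← hs, h, zero_mul])
  obtain ⟨t, ht, ht1, ht2⟩ := hC.inv_mem _ (C.add_mem ha' hx') hs0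
  have e : t = (b' - a) * b * a := left_inv_eq_right_inv ht2 hs
  have e' : a * b * a = a - t := by
    rw [e, show (b' - a) * b * a = b' * b * a - a * b * a by noncomm_ring, hb2, one_mul,
      sub_sub_cancel]
  rw [e']
  exact C.sub_mem ha ht

theorem pow_mem (hC : IsSpread C) {a : AddMonoid.End A} (ha : a ∈ C) : ∀ n : ℕ, a ^ n ∈ C
  | 0 => by rw [pow_zero]; exact hC.one_mem
  | 1 => by rw [pow_one]; exact ha
  | n + 2 => by rw [pow_succ, pow_succ']; exact hC.mul_mul_mem ha (pow_mem hC ha n)

variable [Finite A]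

theorem finite_units : Finite (AddMonoid.End A)ˣ := by
  have : Finite (AddMonoid.End A) := Finite.of_injective (fun f : AddMonoid.End A => (f : A → A))
    DFunLike.coe_injective
  infer_instance

/-- The powers of an element of `C` act without fixed points, so its order divides `|A| - 1`. -/
theorem orderOf_dvd (hC : IsSpread C) {u : (AddMonoid.End A)ˣ} (hu : (u : AddMonoid.End A) ∈ C) :
    orderOf u ∣ Nat.card A - 1 := by
  classical
  have := finite_units (A := A)
  let K := Subgroup.zpowers u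
  let X := {a : A // a ≠ 0}
  have hne : ∀ (g : (AddMonoid.End A)ˣ) (a : A), a ≠ 0 → (g : AddMonoid.End A) a ≠ 0 := by
    intro g a ha h
    apply ha
    have := DFunLike.congr_fun g.inv_mul a
    change (↑g⁻¹ : AddMonoid.End A) ((g : AddMonoid.End A) a) = a at this
    rw [h, map_zero] at this
    exact this.symm
  let : MulAction ↥K X :=
    { smul := fun g a => ⟨(g.1 : AddMonoid.End A) a.1, hne g.1 a.1 a.2⟩
      one_smul := fun a => Subtype.ext rfl
      mul_smul := fun g h a => Subtype.ext rfl }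
  have hfree : ∀ a : X, MulAction.stabilizer ↥K a = ⊥ := by
    intro a
    rw [Subgroup.eq_bot_iff_forall]
    rintro ⟨g, hg⟩ h
    obtain ⟨n, -, rfl⟩ := Finset.mem_image.1 (mem_zpowers_iff_mem_range_orderOf.1 hg)
    have h' : ((u ^ n : (AddMonoid.End A)ˣ) : AddMonoid.End A) a.1 = a.1 := congrArg Subtype.val h
    rw [Units.val_pow_eq_pow_val] at h'
    apply Subtype.ext
    apply Units.ext
    rw [OneMemClass.coe_one, Units.val_one, Units.val_pow_eq_pow_val]
    by_contra hne1
    obtain ⟨d, -, -, hd⟩ := hC.inv_mem _ (C.sub_mem (hC.pow_mem hu n) hC.one_mem)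
      (sub_ne_zero.2 hne1)
    have := DFunLike.congr_fun hd a.1
    change d ((↑u ^ n : AddMonoid.End A) a.1 - a.1) = a.1 at this
    rw [h', sub_self, map_zero] at this
    exact a.2 this.symm
  have hcard : Nat.card X = Nat.card A - 1 := by
    have := Fintype.ofFinite A
    rw [Nat.card_eq_fintype_card, Nat.card_eq_fintype_card, Fintype.card_subtype_compl,
      Fintype.card_subtype_eq]
  rw [← hcard, ← Nat.card_zpowers]
  exact ⟨Nat.card (Quotient (MulAction.orbitRel ↥K X)), by
    rw [Nat.card_congr (MulAction.selfEquivOrbitsQuotientProd hfree), Nat.card_prod, mul_comm]⟩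

theorem odd_card_sub_one (hC : IsSpread C) : Odd (Nat.card A - 1) := by
  have := hC.nontrivial
  obtain ⟨a, ha⟩ := exists_ne (0 : A)
  have h2 : 2 ∣ Nat.card A := by
    have : addOrderOf a = 2 := addOrderOf_eq_prime (by rw [two_nsmul]; exact hC.two a) ha
    exact this ▸ addOrderOf_dvd_natCard a
  have := (Finite.one_lt_card (α := A))
  obtain ⟨k, hk⟩ := h2
  exact ⟨k - 1, by omega⟩

theorem odd_orderOf (hC : IsSpread C) {u : (AddMonoid.End A)ˣ}
    (hu : (u : AddMonoid.End A) ∈ C) : Odd (orderOf u) :=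
  hC.odd_card_sub_one.of_dvd_nat (hC.orderOf_dvd hu)

/-- An element whose order is not a divisor of any `2 ^ i - 1` with `2 ^ i < |A|` makes `C`
commutative and multiplicatively closed. -/
theorem commute_of_order (hC : IsSpread C) {u : (AddMonoid.End A)ˣ}
    (hu : (u : AddMonoid.End A) ∈ C)
    (hprim : ∀ i : ℕ, 0 < i → 2 ^ i < Nat.card A → ¬ orderOf u ∣ 2 ^ i - 1) :
    ∀ a ∈ C, ∀ b ∈ C, a * b = b * a ∧ a * b ∈ C := by
  classical
  have := finite_units (A := A)
  have : Finite (AddMonoid.End A) := Finite.of_injective (fun f : AddMonoid.End A => (f : A → A))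
    DFunLike.coe_injective
  set S := AddSubgroup.closure (Set.range fun n : ℕ => (u : AddMonoid.End A) ^ n) with hS
  have hle : S ≤ C := (AddSubgroup.closure_le _).2 (by rintro _ ⟨n, rfl⟩; exact hC.pow_mem hu n)
  have hmul : ∀ a ∈ S, ∀ b ∈ S, a * b = b * a ∧ a * b ∈ S := by
    intro a ha
    induction ha using AddSubgroup.closure_induction with
    | mem a ha =>
      obtain ⟨n, rfl⟩ := ha
      intro b hb
      induction hb using AddSubgroup.closure_induction with
      | mem b hb =>
        obtain ⟨m, rfl⟩ := hb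
        exact ⟨by rw [← pow_add, ← pow_add, add_comm],
          by rw [← pow_add]; exact AddSubgroup.subset_closure ⟨n + m, rfl⟩⟩
      | zero => simp only [mul_zero, zero_mul, true_and]; exact S.zero_mem
      | add b c _ _ hb hc => exact ⟨by rw [mul_add, add_mul, hb.1, hc.1],
          by rw [mul_add]; exact S.add_mem hb.2 hc.2⟩
      | neg b _ hb => exact ⟨by rw [mul_neg, neg_mul, hb.1],
          by rw [mul_neg]; exact S.neg_mem hb.2⟩
    | zero => intro b _; simp only [mul_zero, zero_mul, true_and]; exact S.zero_mem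
    | add a c _ _ ha hc => intro b hb; exact ⟨by rw [mul_add, add_mul, (ha b hb).1, (hc b hb).1],
        by rw [add_mul]; exact S.add_mem (ha b hb).2 (hc b hb).2⟩
    | neg a _ ha => intro b hb; exact ⟨by rw [mul_neg, neg_mul, (ha b hb).1],
        by rw [neg_mul]; exact S.neg_mem (ha b hb).2⟩
  let M : Submonoid (AddMonoid.End A)ˣ :=
    { carrier := {v | (v : AddMonoid.End A) ∈ S}
      one_mem' := AddSubgroup.subset_closure ⟨0, pow_zero _⟩
      mul_mem' := fun {v w} hv hw => by
        change ((v * w : (AddMonoid.End A)ˣ) : AddMonoid.End A) ∈ S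
        rw [Units.val_mul]; exact (hmul _ hv _ hw).2 }
  let U : Subgroup (AddMonoid.End A)ˣ :=
    { M with
      inv_mem' := fun {v} hv => by
        have : v⁻¹ ∈ Submonoid.powers v :=
          mem_powers_iff_mem_zpowers.2 (Subgroup.inv_mem _ (Subgroup.mem_zpowers v))
        exact (Submonoid.powers_le.2 hv : Submonoid.powers v ≤ M) this }
  let e : ↥U ≃ {s : ↥S // s ≠ 0} := Equiv.ofBijective
    (fun v => ⟨⟨(v.1 : AddMonoid.End A), v.2⟩, fun h => hC.one_ne_zero (by
      rw [← v.1.inv_mul, show (v.1 : AddMonoid.End A) = 0 from congrArg Subtype.val h, mul_zero])⟩)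
    ⟨fun v w h => Subtype.ext (Units.ext (congrArg (fun s => s.1.1) h)), fun s => by
      obtain ⟨v, hv⟩ := hC.exists_unit (hle s.1.2) fun h => s.2 (Subtype.ext h)
      exact ⟨⟨v, show (v : AddMonoid.End A) ∈ S by rw [hv]; exact s.1.2⟩,
        Subtype.ext (Subtype.ext hv)⟩⟩
  have hcardU : Nat.card ↥U = Nat.card ↥S - 1 := by
    have := Fintype.ofFinite ↥S
    rw [Nat.card_congr e, Nat.card_eq_fintype_card, Nat.card_eq_fintype_card,
      Fintype.card_subtype_compl, Fintype.card_subtype_eq]
  have hdvd : orderOf u ∣ Nat.card ↥S - 1 := by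
    rw [← hcardU]
    exact U.orderOf_dvd_natCard (show (u : AddMonoid.End A) ∈ S from
      AddSubgroup.subset_closure ⟨1, pow_one _⟩)
  have hCp : Nat.card ↥S ≤ Nat.card A := hC.card_eq ▸ AddSubgroup.card_le_of_le hle
  obtain ⟨i, hi⟩ : ∃ i, Nat.card ↥S = 2 ^ i := by
    have := Fact.mk Nat.prime_two
    refine (IsPGroup.iff_card (p := 2) (G := Multiplicative ↥S)).1 fun s => ⟨1, ?_⟩
    apply Multiplicative.toAdd.injective
    rw [pow_one, toAdd_pow, toAdd_one, two_nsmul]
    refine Subtype.ext (DFunLike.ext _ _ fun a => ?_)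
    exact hC.two _
  have heq : S = C := by
    apply AddSubgroup.eq_of_le_of_card_ge hle
    rw [hC.card_eq]
    refine Nat.le_of_not_lt fun hlt => hprim i (Nat.pos_of_ne_zero fun h0 => ?_) (hi ▸ hlt) (hi ▸ hdvd)
    rw [h0, pow_zero, Nat.card_eq_one_iff_unique] at hi
    have := hi.1
    exact hC.one_ne_zero (congrArg Subtype.val (Subsingleton.elim
      (⟨1, AddSubgroup.subset_closure ⟨0, pow_zero _⟩⟩ : ↥S) 0))
  rw [← heq]
  exact hmul

end IsSpread

end Cfsg.Agent.SpreadField
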