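/-
The twisted group of a spread set closed under inversion: with Glauberman's Z*-theorem it yields
an element of primitive order, hence commutativity.
Main result: `IsSpread.commute`, `IsSpread.mul_mem`.
-/
import Cfsg.Agent.Lib.SpreadField.Basic
import Cfsg.Agent.Lib.ZStar.Unique
import Cfsg.Agent.Lib.ZStar.Glauberman
import Cfsg.Agent.Lib.ZStarPrimePower.Basic
import Cfsg.Agent.Lib.Zsigmondy.Basic

set_option autoImplicit false

namespace Cfsg.Agent.SpreadField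

universe u

variable {A : Type u} [AddCommGroup A]

/-- Componentwise action of pairs of units on `A × A`. -/
def pairPerm : (AddMonoid.End A)ˣ × (AddMonoid.End A)ˣ →* Equiv.Perm (A × A) where
  toFun p :=
    { toFun := fun x => (p.1.val x.1, p.2.val x.2)
      invFun := fun x => (p.1.inv x.1, p.2.inv x.2)
      left_inv := fun x => Prod.ext (DFunLike.congr_fun p.1.inv_val x.1)
        (DFunLike.congr_fun p.2.inv_val x.2)
      right_inv := fun x => Prod.ext (DFunLike.congr_fun p.1.val_inv x.1)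
        (DFunLike.congr_fun p.2.val_inv x.2) }
  map_one' := Equiv.ext fun _ => rfl
  map_mul' _ _ := Equiv.ext fun _ => rfl

theorem pairPerm_apply (p : (AddMonoid.End A)ˣ × (AddMonoid.End A)ˣ) (a b : A) :
    pairPerm p (a, b) = ((p.1 : AddMonoid.End A) a, (p.2 : AddMonoid.End A) b) := rfl

/-- The exchange of the two factors. -/
def swapPerm : Equiv.Perm (A × A) := Equiv.prodComm A A

omit [AddCommGroup A] in
theorem swap_mul_swap : (swapPerm : Equiv.Perm (A × A)) * swapPerm = 1 := Equiv.ext fun ⟨_, _⟩ => rfl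

theorem swap_mul_pair (p : (AddMonoid.End A)ˣ × (AddMonoid.End A)ˣ) :
    swapPerm * pairPerm p = pairPerm p.swap * swapPerm := Equiv.ext fun ⟨_, _⟩ => rfl

theorem pair_mul_swap (p : (AddMonoid.End A)ˣ × (AddMonoid.End A)ˣ) :
    pairPerm p * swapPerm = swapPerm * pairPerm p.swap := by
  rw [swap_mul_pair, Prod.swap_swap]

theorem pairPerm_injective : Function.Injective (pairPerm (A := A)) := by
  intro p q h
  refine Prod.ext (Units.ext ?_) (Units.ext ?_) <;> refine DFunLike.ext _ _ fun a => ?_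
  · exact congrArg Prod.fst (Equiv.congr_fun h (a, a))
  · exact congrArg Prod.snd (Equiv.congr_fun h (a, a))

/-- The involution attached to a unit. -/
def tOf (u : (AddMonoid.End A)ˣ) : Equiv.Perm (A × A) := swapPerm * pairPerm (u, u⁻¹)

theorem tOf_one : tOf (1 : (AddMonoid.End A)ˣ) = swapPerm := by
  rw [tOf, inv_one, ← Prod.one_eq_mk, map_one, mul_one]

theorem tOf_mul_tOf (u v : (AddMonoid.End A)ˣ) : tOf u * tOf v = pairPerm (u⁻¹ * v, u * v⁻¹) := by
  rw [tOf, tOf, mul_assoc, ← mul_assoc (pairPerm _), pair_mul_swap, mul_assoc, ← mul_assoc,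
    swap_mul_swap, one_mul, ← map_mul]
  rfl

theorem tOf_mul_self (u : (AddMonoid.End A)ˣ) : tOf u * tOf u = 1 := by
  rw [tOf_mul_tOf, inv_mul_cancel, mul_inv_cancel, ← Prod.one_eq_mk, map_one]

theorem tOf_inv (u : (AddMonoid.End A)ˣ) : (tOf u)⁻¹ = tOf u :=
  inv_eq_of_mul_eq_one_right (tOf_mul_self u)

theorem tOf_conj (u v : (AddMonoid.End A)ˣ) : tOf u * tOf v * (tOf u)⁻¹ = tOf (u * v⁻¹ * u) := by
  rw [tOf_inv, mul_assoc, tOf_mul_tOf, tOf, tOf, mul_assoc, ← map_mul, Prod.mk_mul_mk]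
  congr 3

namespace IsSpread

variable [Finite A] {C : AddSubgroup (AddMonoid.End A)}

theorem exists_sqrt (hC : IsSpread C) {u : (AddMonoid.End A)ˣ} (hu : (u : AddMonoid.End A) ∈ C) :
    ∃ s : (AddMonoid.End A)ˣ, (s : AddMonoid.End A) ∈ C ∧ s * s = u := by
  obtain ⟨m, hm⟩ := hC.odd_orderOf hu
  refine ⟨u ^ (m + 1), ?_, ?_⟩
  · rw [Units.val_pow_eq_pow_val]; exact hC.pow_mem hu _
  · rw [← pow_add, show m + 1 + (m + 1) = orderOf u + 1 by omega, pow_succ, pow_orderOf_eq_one,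
      one_mul]

omit [Finite A] in
theorem sandwich_mem (hC : IsSpread C) {u v : (AddMonoid.End A)ˣ} (hu : (u : AddMonoid.End A) ∈ C)
    (hv : (v : AddMonoid.End A) ∈ C) : ((u * v * u : (AddMonoid.End A)ˣ) : AddMonoid.End A) ∈ C := by
  rw [Units.val_mul, Units.val_mul]; exact hC.mul_mul_mem hu hv

/-- Commuting members have their product in `C`. -/
theorem mul_mem_of_commute (hC : IsSpread C) {a b : AddMonoid.End A} (ha : a ∈ C) (hb : b ∈ C)
    (h : a * b = b * a) : a * b ∈ C := by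
  by_cases ha0 : a = 0
  · rw [ha0, zero_mul]; exact C.zero_mem
  obtain ⟨u, rfl⟩ := hC.exists_unit ha ha0
  obtain ⟨m, hm⟩ := hC.odd_orderOf ha
  have hs : ((u : AddMonoid.End A) ^ (m + 1)) * (u : AddMonoid.End A) ^ (m + 1) = u := by
    rw [← pow_add, ← Units.val_pow_eq_pow_val, show m + 1 + (m + 1) = orderOf u + 1 by omega,
      pow_succ, pow_orderOf_eq_one, one_mul]
  have hc : Commute ((u : AddMonoid.End A) ^ (m + 1)) b := Commute.pow_left h _
  have e : (u : AddMonoid.End A) ^ (m + 1) * b * (u : AddMonoid.End A) ^ (m + 1) =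
      (u : AddMonoid.End A) * b := by
    rw [mul_assoc, ← hc.eq, ← mul_assoc, hs]
  rw [← e]
  exact hC.mul_mul_mem (hC.pow_mem ha _) hb

theorem odd_quotient (hC : IsSpread C) {u v : (AddMonoid.End A)ˣ} (hu : (u : AddMonoid.End A) ∈ C)
    (hv : (v : AddMonoid.End A) ∈ C) :
    (u⁻¹ * v) ^ (Nat.card A - 1) = 1 ∧ (u * v⁻¹) ^ (Nat.card A - 1) = 1 := by
  obtain ⟨s, hs, rfl⟩ := hC.exists_sqrt hu
  constructor
  · have h := orderOf_dvd_iff_pow_eq_one.1
      (hC.orderOf_dvd (hC.sandwich_mem (hC.unit_inv_mem hs) hv))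
    rw [show (s * s)⁻¹ * v = s⁻¹ * (s⁻¹ * v * s⁻¹) * (s⁻¹)⁻¹ by group, conj_pow, h, mul_one,
      mul_inv_cancel]
  · have h := orderOf_dvd_iff_pow_eq_one.1
      (hC.orderOf_dvd (hC.sandwich_mem hs (hC.unit_inv_mem hv)))
    rw [show s * s * v⁻¹ = s * (s * v⁻¹ * s) * s⁻¹ by group, conj_pow, h, mul_one, mul_inv_cancel]

/-- The pairs preserving `C`. -/
theorem exists_preserving (hC : IsSpread C) :
    ∃ H : Subgroup ((AddMonoid.End A)ˣ × (AddMonoid.End A)ˣ),
      (∀ p ∈ H, ∀ c ∈ C, (p.1 : AddMonoid.End A) * c * ((p.2⁻¹ : (AddMonoid.End A)ˣ) : AddMonoid.End A) ∈ C) ∧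
      (∀ p ∈ H, p.swap ∈ H) ∧ ∀ u : (AddMonoid.End A)ˣ, (u : AddMonoid.End A) ∈ C → (u, u⁻¹) ∈ H := by
  have := finite_units (A := A)
  let P : Set ((AddMonoid.End A)ˣ × (AddMonoid.End A)ˣ) :=
    {p | ∀ c ∈ C, (p.1 : AddMonoid.End A) * c * ((p.2⁻¹ : (AddMonoid.End A)ˣ) : AddMonoid.End A) ∈ C}
  let M : Submonoid ((AddMonoid.End A)ˣ × (AddMonoid.End A)ˣ) :=
    { carrier := P
      one_mem' := fun c hc => by simpa using hc
      mul_mem' := fun {p q} hp hq c hc => by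
        have := hp _ (hq c hc)
        simpa [mul_assoc] using this }
  let H : Subgroup ((AddMonoid.End A)ˣ × (AddMonoid.End A)ˣ) :=
    { M with
      inv_mem' := fun {p} hp => by
        have : p⁻¹ ∈ Submonoid.powers p :=
          mem_powers_iff_mem_zpowers.2 (Subgroup.inv_mem _ (Subgroup.mem_zpowers p))
        exact (Submonoid.powers_le.2 hp : Submonoid.powers p ≤ M) this }
  refine ⟨H, fun p hp => hp, fun p hp c hc => ?_, fun u hu c hc => ?_⟩
  · change (p.2 : AddMonoid.End A) * c * ((p.1⁻¹ : (AddMonoid.End A)ˣ) : AddMonoid.End A) ∈ C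
    by_cases h0 : c = 0
    · rw [h0, mul_zero, zero_mul]; exact C.zero_mem
    obtain ⟨v, rfl⟩ := hC.exists_unit hc h0
    have h := hp _ (hC.unit_inv_mem hc)
    rw [← Units.val_mul, ← Units.val_mul] at h ⊢
    have := hC.unit_inv_mem h
    rwa [show (p.1 * v⁻¹ * p.2⁻¹)⁻¹ = p.2 * v * p.1⁻¹ by group] at this
  · simpa using hC.mul_mul_mem hu hc

end IsSpread

/-- The set of involutions attached to the non-zero members of `C`. -/
def tSet (C : AddSubgroup (AddMonoid.End A)) : Set (Equiv.Perm (A × A)) :=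
  {t | ∃ u : (AddMonoid.End A)ˣ, (u : AddMonoid.End A) ∈ C ∧ t = tOf u}

/-- The group generated by `tSet C`. -/
def tGroup (C : AddSubgroup (AddMonoid.End A)) : Subgroup (Equiv.Perm (A × A)) :=
  Subgroup.closure (tSet C)

/-- The odd core of `tGroup C`, as a group of pairs of units. -/
noncomputable def oddPairs (C : AddSubgroup (AddMonoid.End A)) :
    Subgroup ((AddMonoid.End A)ˣ × (AddMonoid.End A)ˣ) :=
  ((Cfsg.pPrimeCore 2 ↥(tGroup C)).map (tGroup C).subtype).comap pairPerm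

namespace IsSpread

variable [Finite A] {C : AddSubgroup (AddMonoid.End A)}

omit [Finite A] in
theorem tOf_mem {u : (AddMonoid.End A)ˣ} (hu : (u : AddMonoid.End A) ∈ C) : tOf u ∈ tGroup C :=
  Subgroup.subset_closure ⟨u, hu, rfl⟩

omit [Finite A] in
theorem swap_mem (hC : IsSpread C) : swapPerm ∈ tGroup C :=
  tOf_one (A := A) ▸ tOf_mem (u := 1) hC.one_mem

omit [Finite A] in
theorem conj_mem_tSet (hC : IsSpread C) : ∀ g ∈ tGroup C, ∀ u : (AddMonoid.End A)ˣ,
    (u : AddMonoid.End A) ∈ C → g * tOf u * g⁻¹ ∈ tSet C := by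
  intro g hg
  induction hg using Subgroup.closure_induction'' with
  | mem t ht' =>
    obtain ⟨v, hv, rfl⟩ := ht'
    exact fun u hu => ⟨_, hC.sandwich_mem hv (hC.unit_inv_mem hu), tOf_conj v u⟩
  | inv_mem t ht' =>
    obtain ⟨v, hv, rfl⟩ := ht'
    rw [tOf_inv]
    exact fun u hu => ⟨_, hC.sandwich_mem hv (hC.unit_inv_mem hu), tOf_conj v u⟩
  | one => exact fun u hu => ⟨u, hu, by group⟩
  | mul a b _ _ ha hb =>
    intro u hu
    obtain ⟨w, hw, e⟩ := hb u hu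
    rw [show a * b * tOf u * (a * b)⁻¹ = a * (b * tOf u * b⁻¹) * a⁻¹ by group, e]
    exact ha w hw

theorem exists_coset (hC : IsSpread C) : ∀ g ∈ tGroup C, ∃ p : (AddMonoid.End A)ˣ × (AddMonoid.End A)ˣ,
    (∀ c ∈ C, (p.1 : AddMonoid.End A) * c * ((p.2⁻¹ : (AddMonoid.End A)ˣ) : AddMonoid.End A) ∈ C) ∧
    (g = pairPerm p ∨ g = swapPerm * pairPerm p) := by
  obtain ⟨H, hH, hC.swap_memap, hHu⟩ := hC.exists_preserving
  suffices h : ∀ g ∈ tGroup C, ∃ p ∈ H, g = pairPerm p ∨ g = swapPerm * pairPerm p by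
    intro g hg
    obtain ⟨p, hp, e⟩ := h g hg
    exact ⟨p, hH p hp, e⟩
  intro g hg
  induction hg using Subgroup.closure_induction'' with
  | mem t ht' =>
    obtain ⟨u, hu, rfl⟩ := ht'
    exact ⟨_, hHu u hu, Or.inr rfl⟩
  | inv_mem t ht' =>
    obtain ⟨u, hu, rfl⟩ := ht'
    rw [tOf_inv]
    exact ⟨_, hHu u hu, Or.inr rfl⟩
  | one => exact ⟨1, H.one_mem, Or.inl (map_one pairPerm).symm⟩
  | mul a b _ _ ha hb =>
    obtain ⟨p, hp, rfl | rfl⟩ := ha <;> obtain ⟨q, hq, rfl | rfl⟩ := hb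
    · exact ⟨p * q, H.mul_mem hp hq, Or.inl (map_mul _ _ _).symm⟩
    · refine ⟨p.swap * q, H.mul_mem (hC.swap_memap p hp) hq, Or.inr ?_⟩
      rw [← mul_assoc, pair_mul_swap, mul_assoc, map_mul]
    · exact ⟨p * q, H.mul_mem hp hq, Or.inr (by rw [map_mul, mul_assoc])⟩
    · refine ⟨p.swap * q, H.mul_mem (hC.swap_memap p hp) hq, Or.inl ?_⟩
      rw [mul_assoc, ← mul_assoc (pairPerm p), pair_mul_swap, mul_assoc, ← mul_assoc,
        swap_mul_swap, one_mul, map_mul]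

omit [Finite A] in
theorem swap_ne_one (hC : IsSpread C) : (swapPerm : Equiv.Perm (A × A)) ≠ 1 := by
  intro h
  have := hC.nontrivial
  obtain ⟨a, ha⟩ := exists_ne (0 : A)
  exact ha (congrArg Prod.fst (Equiv.congr_fun h ((0 : A), a)))

omit [Finite A] in
theorem orderOf_swap (hC : IsSpread C) : orderOf (⟨swapPerm, hC.swap_mem⟩ : ↥(tGroup C)) = 2 :=
  orderOf_eq_prime (hp := ⟨Nat.prime_two⟩) (Subtype.ext (by rw [SubmonoidClass.coe_pow, pow_two]; exact swap_mul_swap))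
    fun h => hC.swap_ne_one (congrArg Subtype.val h)

theorem isolated_swap (hC : IsSpread C) :
    Cfsg.IsIsolatedInvolution (⟨swapPerm, hC.swap_mem⟩ : ↥(tGroup C)) := by
  have hone : ((1 : (AddMonoid.End A)ˣ) : AddMonoid.End A) ∈ C := hC.one_mem
  have hτ2 := hC.orderOf_swap
  have hconj := hC.conj_mem_tSet
  refine ⟨hτ2, fun g hc => ?_⟩
  generalize hτ : (⟨swapPerm, hC.swap_mem⟩ : ↥(tGroup C)) = τ at hc hτ2 ⊢
  have hτv : (τ : Equiv.Perm (A × A)) = swapPerm := by rw [← hτ]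
  obtain ⟨v, hv, e⟩ := hconj g g.2 1 hone
  rw [tOf_one] at e
  have e' : (g * τ * g⁻¹ : ↥(tGroup C)).1 = tOf v := by
    rw [Subgroup.coe_mul, Subgroup.coe_mul, InvMemClass.coe_inv, hτv]; exact e
  have h2 : (τ * (g * τ * g⁻¹)) ^ 2 = 1 := by
    rw [hc.mul_pow, conj_pow, ← hτ2, pow_orderOf_eq_one, mul_one, mul_inv_cancel, one_mul]
  have h3 : (τ * (g * τ * g⁻¹)) ^ (Nat.card A - 1) = 1 := by
    apply Subtype.ext
    rw [SubmonoidClass.coe_pow, Subgroup.coe_mul, e', OneMemClass.coe_one,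
      show (τ : Equiv.Perm (A × A)) = tOf (1 : (AddMonoid.End A)ˣ) from hτv.trans tOf_one.symm, tOf_mul_tOf,
      ← map_pow, Prod.pow_mk, (hC.odd_quotient hone hv).1, (hC.odd_quotient hone hv).2,
      ← Prod.one_eq_mk, map_one]
  have h1 : τ * (g * τ * g⁻¹) = 1 := by
    have hg := pow_gcd_eq_one.mpr ⟨h2, h3⟩
    rwa [(Nat.coprime_two_left.2 hC.odd_card_sub_one : Nat.gcd 2 (Nat.card A - 1) = 1), pow_one] at hg
  calc g * τ * g⁻¹ = τ⁻¹ * (τ * (g * τ * g⁻¹)) := (inv_mul_cancel_left _ _).symm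
    _ = τ := by rw [h1, mul_one, inv_eq_of_mul_eq_one_right]; exact Subtype.ext (by rw [Subgroup.coe_mul, hτv]; exact swap_mul_swap)

theorem odd_oddPairs_card (_hC : IsSpread C) : Odd (Nat.card ↥(oddPairs C)) := by
  have := finite_units (A := A)
  have := Fact.mk Nat.prime_two
  have h2 : Odd (Nat.card ↥(Cfsg.pPrimeCore 2 ↥(tGroup C))) :=
    Nat.coprime_two_right.1 (Cores.coprime_card_pPrimeCore 2)
  refine h2.of_dvd_nat ?_
  rw [oddPairs, ← Subgroup.card_map_of_injective (tGroup C).subtype_injective,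
    ← Subgroup.card_map_of_injective pairPerm_injective]
  exact Subgroup.card_dvd_of_le (Subgroup.map_comap_le _ _)

theorem pair_mem_oddPairs (hC : IsSpread C) {u : (AddMonoid.End A)ˣ}
    (hu : (u : AddMonoid.End A) ∈ C) : (u, u⁻¹) ∈ oddPairs C := by
  have hz := ZStar.zStar_of_brauerSuzuki ZStar.uniqueInvolution hC.isolated_swap
  obtain ⟨s, hs, rfl⟩ := hC.exists_sqrt hu
  have hw : swapPerm * tOf s ∈ tGroup C := (tGroup C).mul_mem hC.swap_mem (tOf_mem hs)
  obtain ⟨w, hwv⟩ : ∃ w : ↥(tGroup C), (w : Equiv.Perm (A × A)) = pairPerm (s, s⁻¹) :=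
    ⟨⟨_, hw⟩, by change swapPerm * (swapPerm * pairPerm (s, s⁻¹)) = _; rw [← mul_assoc, swap_mul_swap, one_mul]⟩
  obtain ⟨τ, hτ⟩ : ∃ τ : ↥(tGroup C), τ = ⟨swapPerm, hC.swap_mem⟩ := ⟨_, rfl⟩
  rw [← hτ] at hz
  have hτv : (τ : Equiv.Perm (A × A)) = swapPerm := by rw [hτ]
  have hsi : (swapPerm : Equiv.Perm (A × A))⁻¹ = swapPerm := inv_eq_of_mul_eq_one_right swap_mul_swap
  have key : ((τ * w * τ⁻¹ * w⁻¹)⁻¹ : ↥(tGroup C)).1 = pairPerm (s * s, (s * s)⁻¹) := by
    simp only [InvMemClass.coe_inv, Subgroup.coe_mul, hwv, hτv, hsi]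
    rw [swap_mul_pair, mul_assoc (pairPerm _) swapPerm, swap_mul_swap, mul_one, ← map_inv,
      ← map_mul, ← map_inv]
    congr 1
  rw [oddPairs, Subgroup.mem_comap, Subgroup.mem_map]
  exact ⟨_, Subgroup.inv_mem _ (hz w), key⟩

theorem map_oddPairs (hC : IsSpread C) :
    (oddPairs C).map pairPerm = (Cfsg.pPrimeCore 2 ↥(tGroup C)).map (tGroup C).subtype := by
  have := Fact.mk Nat.prime_two
  have hNodd : Odd (Nat.card ↥(Cfsg.pPrimeCore 2 ↥(tGroup C))) :=
    Nat.coprime_two_right.1 (Cores.coprime_card_pPrimeCore 2)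
  refine Subgroup.map_comap_eq_self ?_
  rintro _ ⟨x, hx, rfl⟩
  obtain ⟨p, hp, e | e⟩ := hC.exists_coset x x.2
  · exact ⟨p, e.symm⟩
  · obtain ⟨k, hk⟩ := hNodd.of_dvd_nat (Subgroup.orderOf_dvd_natCard _ hx)
    refine ⟨(p.swap * p) ^ (k + 1), ?_⟩
    change _ = (x : Equiv.Perm (A × A))
    rw [map_pow]
    have e2 : pairPerm (p.swap * p) = (x : Equiv.Perm (A × A)) ^ 2 := by
      rw [pow_two, e, mul_assoc, ← mul_assoc (pairPerm p), pair_mul_swap, mul_assoc, ← mul_assoc,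
        swap_mul_swap, one_mul, map_mul]
    rw [e2, ← pow_mul, show 2 * (k + 1) = orderOf x + 1 by omega, pow_succ]
    rw [← SubmonoidClass.coe_pow, pow_orderOf_eq_one, OneMemClass.coe_one, one_mul]

theorem oddPairs_preserves (hC : IsSpread C) : ∀ p ∈ oddPairs C, ∀ c ∈ C,
    (p.1 : AddMonoid.End A) * c * ((p.2⁻¹ : (AddMonoid.End A)ˣ) : AddMonoid.End A) ∈ C := by
  intro p hp
  obtain ⟨x, hx, e⟩ := (Subgroup.mem_comap.1 hp : pairPerm p ∈ (Cfsg.pPrimeCore 2 ↥(tGroup C)).map (tGroup C).subtype)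
  obtain ⟨q, hq, e' | e'⟩ := hC.exists_coset x x.2
  · rw [show p = q from pairPerm_injective (e.symm.trans e')]; exact hq
  · exfalso
    apply hC.swap_ne_one
    have h' : pairPerm p = swapPerm * pairPerm q := e.symm.trans e'
    have h'' : swapPerm = pairPerm (p * q⁻¹) := by
      rw [map_mul, map_inv, h', mul_inv_cancel_right]
    have := hC.nontrivial
    obtain ⟨a, ha⟩ := exists_ne (0 : A)
    have := congrArg Prod.fst (Equiv.congr_fun h'' ((0 : A), a))
    change a = ((p * q⁻¹).1 : AddMonoid.End A) 0 at this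
    rw [map_zero] at this
    exact absurd this ha

theorem exists_swap_sylow (hC : IsSpread C) {r : ℕ} (hr : r.Prime) (hdvd : r ∣ Nat.card ↥(oddPairs C)) :
    ∃ Q : Subgroup ((AddMonoid.End A)ˣ × (AddMonoid.End A)ˣ),
      Q ≤ oddPairs C ∧ IsPGroup r Q ∧ Q ≠ ⊥ ∧ ∀ p ∈ Q, p.swap ∈ Q := by
  have := finite_units (A := A)
  have := Fact.mk Nat.prime_two
  have hNn := Cores.pPrimeCore_normal 2 ↥(tGroup C)
  have hNodd : Odd (Nat.card ↥(Cfsg.pPrimeCore 2 ↥(tGroup C))) :=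
    Nat.coprime_two_right.1 (Cores.coprime_card_pPrimeCore 2)
  have hcardO : Nat.card ↥(oddPairs C) = Nat.card ↥(Cfsg.pPrimeCore 2 ↥(tGroup C)) := by
    rw [← Subgroup.card_map_of_injective pairPerm_injective, hC.map_oddPairs,
      Subgroup.card_map_of_injective (tGroup C).subtype_injective]
  have hτ2 := hC.orderOf_swap
  have hmapO := hC.map_oddPairs
  have := Fact.mk hr
  obtain ⟨Q, hQN, hQcard, hQinv⟩ := ZStarPrimePower.exists_invariant_sylow (Cfsg.pPrimeCore 2 ↥(tGroup C)) hNodd hτ2 r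
  refine ⟨(Q.map (tGroup C).subtype).comap pairPerm, Subgroup.comap_mono (Subgroup.map_mono hQN), ?_, ?_, ?_⟩
  · exact ((IsPGroup.of_card hQcard).map (tGroup C).subtype).comap_of_injective pairPerm pairPerm_injective
  · intro hbot
    have h0 : 0 < (Nat.card ↥(Cfsg.pPrimeCore 2 ↥(tGroup C))).factorization r :=
      hr.factorization_pos_of_dvd Nat.card_pos.ne' (hcardO ▸ hdvd)
    have hQne : Q ≠ ⊥ := fun h => by
      rw [h, Subgroup.card_bot] at hQcard
      have := Nat.one_lt_pow h0.ne' hr.one_lt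
      omega
    obtain ⟨x, hxQ, hx1⟩ := (Subgroup.bot_or_exists_ne_one Q).resolve_left hQne
    have hxm : (x : Equiv.Perm (A × A)) ∈ (oddPairs C).map pairPerm := hmapO ▸ ⟨x, hQN hxQ, rfl⟩
    obtain ⟨p, -, e⟩ := hxm
    have hp : p ∈ (Q.map (tGroup C).subtype).comap pairPerm :=
      Subgroup.mem_comap.2 ⟨x, hxQ, e.symm⟩
    rw [hbot, Subgroup.mem_bot] at hp
    rw [hp, map_one] at e
    exact hx1 (Subtype.ext e.symm)
  · intro p hp
    obtain ⟨x, hx, e⟩ := (Subgroup.mem_comap.1 hp : pairPerm p ∈ Q.map (tGroup C).subtype)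
    refine Subgroup.mem_comap.2 ⟨(⟨swapPerm, hC.swap_mem⟩ : ↥(tGroup C)) * x * (⟨swapPerm, hC.swap_mem⟩ : ↥(tGroup C))⁻¹, hQinv x hx, ?_⟩
    change swapPerm * (x : Equiv.Perm (A × A)) * swapPerm⁻¹ = _
    rw [show (x : Equiv.Perm (A × A)) = pairPerm p from e, swap_mul_pair, mul_inv_cancel_right]

theorem mem_of_inverted (hC : IsSpread C) {u : (AddMonoid.End A)ˣ} (hp : (u, u⁻¹) ∈ oddPairs C) :
    (u : AddMonoid.End A) ∈ C := by
  have := Fact.mk Nat.prime_two
  have hNodd : Odd (Nat.card ↥(Cfsg.pPrimeCore 2 ↥(tGroup C))) :=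
    Nat.coprime_two_right.1 (Cores.coprime_card_pPrimeCore 2)
  have hone : ((1 : (AddMonoid.End A)ˣ) : AddMonoid.End A) ∈ C := hC.one_mem
  have hconj := hC.conj_mem_tSet
  obtain ⟨x, hx, e⟩ := (Subgroup.mem_comap.1 hp : pairPerm (u, u⁻¹) ∈ (Cfsg.pPrimeCore 2 ↥(tGroup C)).map (tGroup C).subtype)
  obtain ⟨k, hk⟩ := hNodd.of_dvd_nat (Subgroup.orderOf_dvd_natCard _ hx)
  have e' : (x : Equiv.Perm (A × A)) = pairPerm (u, u⁻¹) := e
  obtain ⟨w, hw⟩ : ∃ w, w = u ^ (k + 1) := ⟨_, rfl⟩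
  have hwΓ : pairPerm (w, w⁻¹) ∈ tGroup C := by
    rw [hw, show ((u ^ (k + 1), (u ^ (k + 1))⁻¹) : (AddMonoid.End A)ˣ × (AddMonoid.End A)ˣ) =
      (u, u⁻¹) ^ (k + 1) by rw [Prod.pow_mk, inv_pow], map_pow, ← e']
    exact (tGroup C).pow_mem x.2 _
  have hu : u = w * w := by
    have h1 : (u, u⁻¹) ^ orderOf x = 1 := pairPerm_injective (by
      rw [map_pow, map_one, ← e', ← SubmonoidClass.coe_pow, pow_orderOf_eq_one]; rfl)
    have h2 : u ^ orderOf x = 1 := congrArg Prod.fst h1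
    rw [hw, ← pow_add, show k + 1 + (k + 1) = orderOf x + 1 by omega, pow_succ, h2, one_mul]
  obtain ⟨v, hv, e''⟩ := hconj _ ((tGroup C).inv_mem hwΓ) 1 hone
  have e3 : pairPerm (u, u⁻¹) = pairPerm (v, v⁻¹) := by
    refine mul_left_cancel (a := swapPerm) ?_
    change _ = tOf v
    rw [← e'', tOf_one, inv_inv, ← map_inv, pair_mul_swap, mul_assoc, ← map_mul, hu]
    congr 2
  rw [show u = v from congrArg Prod.fst (pairPerm_injective e3)]
  exact hv


end IsSpread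

end Cfsg.Agent.SpreadField
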