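/-
A spread set closed under inversion is commutative (a field).
Main results: `IsSpread.commute`, `IsSpread.mul_mem`.
-/
import Cfsg.Agent.Lib.SpreadField.Twisted

set_option autoImplicit false

namespace Cfsg.Agent.SpreadField

universe u

/-- An endomorphism of order `r` of a small elementary abelian 2-group with a non-zero fixed point
is the identity, when `r` divides no `2 ^ k - 1` with `0 < k < e`. -/
theorem eq_id_of_fixed {X : Type*} [AddCommGroup X] [Finite X] {e j r : ℕ} (hr : r.Prime)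
    (hr2 : r ≠ 2) (hprim : ∀ k : ℕ, 0 < k → k < e → ¬ r ∣ 2 ^ k - 1) (hX : Nat.card X = 2 ^ j)
    (hje : j ≤ e) (σ : X →+ X) (hσ : ∀ x, (⇑σ)^[r] x = x) (hfix : j < e ∨ ∃ x, x ≠ 0 ∧ σ x = x) :
    ∀ x, σ x = x := by
  classical
  have := Fact.mk hr
  have := Fintype.ofFinite X
  have hb : Function.Bijective σ := by
    refine Finite.injective_iff_bijective.1 fun a b h => ?_
    rw [← hσ a, ← hσ b, show r = r - 1 + 1 by have := hr.one_lt; omega, Function.iterate_succ_apply,
      Function.iterate_succ_apply, h]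
  let π : Equiv.Perm X := Equiv.ofBijective σ hb
  have hπ : π ^ r ^ 1 = 1 := by
    refine Equiv.ext fun x => ?_
    rw [pow_one, Equiv.Perm.coe_pow]
    exact hσ x
  have hmod := Equiv.Perm.card_compl_support_modEq hπ
  let F : AddSubgroup X := AddMonoidHom.eqLocus σ (AddMonoidHom.id X)
  have hF : π.supportᶜ.card = Nat.card F := by
    rw [Nat.card_eq_fintype_card]
    refine (Fintype.card_of_subtype _ fun x => ?_).symm
    rw [Finset.mem_compl, Equiv.Perm.mem_support, not_not]
    exact Iff.rfl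
  obtain ⟨i, hij, hi⟩ := (Nat.dvd_prime_pow Nat.prime_two).1 (hX ▸ F.card_addSubgroup_dvd_card)
  rw [hF, hi, ← Nat.card_eq_fintype_card, hX] at hmod
  have hdvd : r ∣ 2 ^ j - 2 ^ i := (Nat.modEq_iff_dvd' (Nat.pow_le_pow_right (by norm_num) hij)).1 hmod
  have hji : j - i < e := by
    rcases hfix with h | ⟨x, hx0, hx⟩
    · omega
    · rcases Nat.eq_zero_or_pos i with h0 | h0
      · rw [h0, pow_zero, Nat.card_eq_one_iff_unique] at hi
        have := hi.1
        exact absurd (congrArg Subtype.val (Subsingleton.elim (⟨x, hx⟩ : ↥F) 0)) hx0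
      · rcases Nat.eq_zero_or_pos e with he | he <;> omega
  have hij' : i = j := by
    by_contra hne
    refine hprim (j - i) (by omega) hji ?_
    rw [show 2 ^ j - 2 ^ i = 2 ^ i * (2 ^ (j - i) - 1) by
      rw [Nat.mul_sub_one, ← pow_add, Nat.add_sub_cancel' hij]] at hdvd
    exact (hr.dvd_mul.1 hdvd).resolve_left fun h =>
      hr2 ((Nat.prime_dvd_prime_iff_eq hr Nat.prime_two).1 (hr.dvd_of_dvd_pow h))
  intro x
  have : F = ⊤ := AddSubgroup.eq_top_of_le_card F (by rw [hi, hij', hX])
  exact (this.ge (AddSubgroup.mem_top x) : x ∈ F)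

namespace IsSpread

variable {A : Type u} [AddCommGroup A] [Finite A] {C : AddSubgroup (AddMonoid.End A)}

theorem exists_card_eq_two_pow (hC : IsSpread C) (B : AddSubgroup A) :
    ∃ i, Nat.card ↥B = 2 ^ i := by
  have := Fact.mk Nat.prime_two
  refine (IsPGroup.iff_card (p := 2) (G := Multiplicative ↥B)).1 fun s => ⟨1, ?_⟩
  apply Multiplicative.toAdd.injective
  rw [pow_one, toAdd_pow, toAdd_one, two_nsmul]
  exact Subtype.ext (hC.two _)

theorem evalBijective (hC : IsSpread C) {a : A} (ha : a ≠ 0) :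
    Function.Bijective (fun c : ↥C => c.1 a) := by
  have hinj : Function.Injective (fun c : ↥C => c.1 a) := by
    intro c d h
    by_contra hne
    obtain ⟨v, -, -, hv⟩ := hC.inv_mem _ (C.sub_mem c.2 d.2) (sub_ne_zero.2 fun e => hne (Subtype.ext e))
    have := DFunLike.congr_fun hv a
    change v (c.1 a - d.1 a) = a at this
    rw [show c.1 a = d.1 a from h, sub_self, map_zero] at this
    exact ha this.symm
  have : Finite (AddMonoid.End A) := Finite.of_injective (fun f : AddMonoid.End A => (f : A → A))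
    DFunLike.coe_injective
  exact (Nat.bijective_iff_injective_and_card _).2 ⟨hinj, hC.card_eq⟩

/-- A fixed element of primitive order centralises `C`, hence lies in it. -/
theorem mem_of_fixed (hC : IsSpread C) {e r : ℕ} (he : Nat.card A = 2 ^ e) (hr : r.Prime) (hr2 : r ≠ 2)
    (hprim : ∀ k : ℕ, 0 < k → k < e → ¬ r ∣ 2 ^ k - 1) {g : (AddMonoid.End A)ˣ} (hg : g ^ r = 1)
    (hg1 : g ≠ 1)
    (hpres : ∀ c ∈ C, (g : AddMonoid.End A) * c * ((g⁻¹ : (AddMonoid.End A)ˣ) : AddMonoid.End A) ∈ C) :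
    (g : AddMonoid.End A) ∈ C := by
  classical
  have := finite_units (A := A)
  have : Finite (AddMonoid.End A) := Finite.of_injective (fun f : AddMonoid.End A => (f : A → A))
    DFunLike.coe_injective
  have hgA : ∀ a : A, (g : AddMonoid.End A) a = a → a = 0 := by
    intro a ha
    by_contra h0
    refine hg1 (Units.ext (DFunLike.ext _ _ fun x => ?_))
    exact eq_id_of_fixed hr hr2 hprim he le_rfl (g : AddMonoid.End A) (fun y => by
      have h := congrFun (AddMonoid.End.coe_pow A (g : AddMonoid.End A) r) y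
      rw [← Units.val_pow_eq_pow_val, hg] at h
      exact h.symm.trans rfl) (Or.inr ⟨a, h0, ha⟩) x
  -- conjugation on `C` fixes `1`
  let σ : ↥C →+ ↥C :=
    { toFun := fun c => ⟨_, hpres c.1 c.2⟩
      map_zero' := Subtype.ext (by simp)
      map_add' := fun c d => Subtype.ext (by simp [mul_add, add_mul]) }
  have hσ : ∀ (n : ℕ) (c : ↥C), ((⇑σ)^[n] c).1 =
      ((g ^ n : (AddMonoid.End A)ˣ) : AddMonoid.End A) * c.1 * (((g ^ n)⁻¹ : (AddMonoid.End A)ˣ) : AddMonoid.End A) := by
    intro n
    induction n with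
    | zero => intro c; simp
    | succ n ih =>
      intro c
      rw [Function.iterate_succ_apply', pow_succ']
      change (g : AddMonoid.End A) * ((⇑σ)^[n] c).1 * ((g⁻¹ : (AddMonoid.End A)ˣ) : AddMonoid.End A) = _
      rw [ih, mul_inv_rev, Units.val_mul, Units.val_mul]
      simp only [mul_assoc]
  have hfix : ∀ c : ↥C, σ c = c := by
    refine eq_id_of_fixed hr hr2 hprim (hC.card_eq.trans he) le_rfl σ (fun c => Subtype.ext ?_)
      (Or.inr ⟨⟨1, hC.one_mem⟩, fun h => hC.one_ne_zero (congrArg Subtype.val h),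
        Subtype.ext (by change (g : AddMonoid.End A) * 1 * _ = 1; rw [mul_one, Units.mul_inv])⟩)
    rw [hσ, hg, inv_one, Units.val_one, one_mul, mul_one]
  -- the centraliser of `g` is `C`
  let Z : AddSubgroup (AddMonoid.End A) :=
    { carrier := {z | (g : AddMonoid.End A) * z = z * g}
      zero_mem' := by simp
      add_mem' := fun {a b} ha hb => by
        change (g : AddMonoid.End A) * (a + b) = (a + b) * g
        rw [mul_add, add_mul, show (g : AddMonoid.End A) * a = a * g from ha,
          show (g : AddMonoid.End A) * b = b * g from hb]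
      neg_mem' := fun {a} ha => by
        change (g : AddMonoid.End A) * -a = -a * g
        rw [mul_neg, neg_mul, show (g : AddMonoid.End A) * a = a * g from ha] }
  have hCZ : C ≤ Z := by
    intro c hc
    have h : (g : AddMonoid.End A) * c * ((g⁻¹ : (AddMonoid.End A)ˣ) : AddMonoid.End A) = c :=
      congrArg Subtype.val (hfix ⟨c, hc⟩)
    exact (Units.mul_inv_eq_iff_eq_mul g).1 h
  have := hC.nontrivial
  obtain ⟨a₀, ha₀⟩ := exists_ne (0 : A)
  have hZinj : Function.Injective (fun z : ↥Z => z.1 a₀) := by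
    intro z z' h
    by_contra hne
    obtain ⟨w, hw, hwZ⟩ : ∃ w, w = z.1 - z'.1 ∧ w ∈ Z := ⟨_, rfl, Z.sub_mem z.2 z'.2⟩
    let B : AddSubgroup A := AddMonoidHom.ker w
    have hBinv : ∀ b : ↥B, (g : AddMonoid.End A) b.1 ∈ B := fun b => by
      change w ((g : AddMonoid.End A) b.1) = 0
      have := DFunLike.congr_fun (hwZ : (g : AddMonoid.End A) * w = w * g) b.1
      change (g : AddMonoid.End A) (w b.1) = w ((g : AddMonoid.End A) b.1) at this
      rw [← this, show w b.1 = 0 from b.2, map_zero]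
    obtain ⟨j, hj⟩ := hC.exists_card_eq_two_pow B
    have hje : j ≤ e := (Nat.pow_le_pow_iff_right (by norm_num : 1 < 2)).1
      (hj ▸ he ▸ AddSubgroup.card_le_card_addGroup B)
    have ha0B : a₀ ∈ B := by
      change w a₀ = 0
      rw [hw]; change z.1 a₀ - z'.1 a₀ = 0
      rw [show z.1 a₀ = z'.1 a₀ from h, sub_self]
    rcases lt_or_eq_of_le hje with hlt | heq
    · let τ : ↥B →+ ↥B :=
        { toFun := fun b => ⟨_, hBinv b⟩
          map_zero' := Subtype.ext (map_zero _)
          map_add' := fun b b' => Subtype.ext (map_add _ _ _) }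
      have hτ : ∀ (n : ℕ) (b : ↥B), ((⇑τ)^[n] b).1 = ((g : AddMonoid.End A) ^ n) b.1 := by
        intro n
        induction n with
        | zero => intro b; rfl
        | succ n ih =>
          intro b
          rw [Function.iterate_succ_apply', pow_succ']
          change (g : AddMonoid.End A) ((⇑τ)^[n] b).1 = _
          rw [ih]; rfl
      refine ha₀ (hgA a₀ (congrArg Subtype.val (eq_id_of_fixed hr hr2 hprim hj hje τ (fun b =>
        Subtype.ext ?_) (Or.inl hlt) ⟨a₀, ha0B⟩)))
      rw [hτ, ← Units.val_pow_eq_pow_val, hg]; rfl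
    · have hB : B = ⊤ := AddSubgroup.eq_top_of_le_card B (by rw [hj, heq, he])
      exact hne (Subtype.ext (sub_eq_zero.1 (hw ▸ DFunLike.ext _ _ fun x =>
        (hB.ge (AddSubgroup.mem_top x) : x ∈ B))))
  have hZC : Z = C := (AddSubgroup.eq_of_le_of_card_ge hCZ (by
    rw [hC.card_eq]; exact Nat.card_le_card_of_injective _ hZinj)).symm
  rw [← hZC]
  exact rfl

/-- Existence of a member of primitive order. -/
theorem exists_primitive_mem (hC : IsSpread C) {e r : ℕ} (he : Nat.card A = 2 ^ e) (hr : r.Prime)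
    (hdvd : r ∣ 2 ^ e - 1) (hprim : ∀ k : ℕ, 0 < k → k < e → ¬ r ∣ 2 ^ k - 1) :
    ∃ u : (AddMonoid.End A)ˣ, (u : AddMonoid.End A) ∈ C ∧ orderOf u = r := by
  classical
  have := Fact.mk hr
  have := finite_units (A := A)
  have : Finite (AddMonoid.End A) := Finite.of_injective (fun f : AddMonoid.End A => (f : A → A))
    DFunLike.coe_injective
  have hr2 : r ≠ 2 := by
    rintro rfl
    have h := hC.odd_card_sub_one
    rw [he] at h
    exact (Nat.not_even_iff_odd.2 h) (even_iff_two_dvd.2 hdvd)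
  -- the first projection is transitive
  set F1 := (oddPairs C).map (MonoidHom.fst (AddMonoid.End A)ˣ (AddMonoid.End A)ˣ) with hF1
  let X := {a : A // a ≠ 0}
  let _ : MulAction ↥F1 X :=
    { smul := fun g a => ⟨(g.1 : AddMonoid.End A) a.1, fun h => a.2 (by
        have := DFunLike.congr_fun g.1.inv_mul a.1
        change (↑g.1⁻¹ : AddMonoid.End A) ((g.1 : AddMonoid.End A) a.1) = a.1 at this
        rw [h, map_zero] at this
        exact this.symm)⟩
      one_smul := fun a => Subtype.ext rfl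
      mul_smul := fun g h a => Subtype.ext rfl }
  have : MulAction.IsPretransitive ↥F1 X := ⟨fun a b => by
    obtain ⟨⟨c, hc⟩, hcab⟩ := (hC.evalBijective a.2).2 b.1
    obtain ⟨u, rfl⟩ := hC.exists_unit hc (fun h => b.2 (by subst h; exact hcab.symm))
    exact ⟨⟨u, ⟨(u, u⁻¹), hC.pair_mem_oddPairs hc, rfl⟩⟩, Subtype.ext hcab⟩⟩
  have := hC.nontrivial
  obtain ⟨a₀, ha₀⟩ := exists_ne (0 : A)
  have hcardX : Nat.card X = 2 ^ e - 1 := by
    have := Fintype.ofFinite A
    rw [← he, Nat.card_eq_fintype_card, Nat.card_eq_fintype_card, Fintype.card_subtype_compl,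
      Fintype.card_subtype_eq]
  have hrO : r ∣ Nat.card ↥(oddPairs C) := by
    refine hdvd.trans (dvd_trans ?_ (Subgroup.card_map_dvd (oddPairs C)
      (MonoidHom.fst (AddMonoid.End A)ˣ (AddMonoid.End A)ˣ)))
    rw [← hcardX, ← MulAction.index_stabilizer_of_transitive ↥F1 (⟨a₀, ha₀⟩ : X)]
    exact Subgroup.index_dvd_card _
  obtain ⟨Q, hQO, hQp, hQne, hQswap⟩ := hC.exists_swap_sylow hr hrO
  have : Nontrivial ↥Q := (Subgroup.nontrivial_iff_ne_bot Q).2 hQne
  have := hQp.center_nontrivial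
  obtain ⟨y, hy⟩ := exists_prime_orderOf_dvd_card' r
    ((hQp.to_subgroup (Subgroup.center ↥Q)).card_eq_or_dvd.resolve_left Finite.one_lt_card.ne')
  obtain ⟨p, hp⟩ : ∃ p, p = ((y.1.1 : (AddMonoid.End A)ˣ × (AddMonoid.End A)ˣ)) := ⟨_, rfl⟩
  have hord : orderOf p = r := by rw [hp, Subgroup.orderOf_coe, Subgroup.orderOf_coe, hy]
  have hpQ : p ∈ Q := hp ▸ y.1.2
  have hcomm : ∀ q ∈ Q, q * p = p * q := fun q hq =>
    hp ▸ congrArg Subtype.val (Subgroup.mem_center_iff.1 y.2 ⟨q, hq⟩)
  by_cases hinv : p * p.swap = 1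
  · -- inverted
    have h2 : p.2 = p.1⁻¹ := (inv_eq_of_mul_eq_one_right (congrArg Prod.fst hinv)).symm
    refine ⟨p.1, hC.mem_of_inverted (by rw [← h2]; exact hQO hpQ), ?_⟩
    apply orderOf_eq_prime
    · exact congrArg Prod.fst (hord ▸ pow_orderOf_eq_one p : p ^ r = 1)
    · intro h1
      have : p = 1 := Prod.ext h1 (by rw [h2, h1, inv_one]; rfl)
      rw [this, orderOf_one] at hord
      exact hr.one_lt.ne hord
  · -- fixed
    have hc : Commute p p.swap := (hcomm _ (hQswap p hpQ)).symm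
    have hpow : (p * p.swap) ^ r = 1 := by
      have h1 : p ^ r = 1 := hord ▸ pow_orderOf_eq_one p
      rw [hc.mul_pow, h1, one_mul, show p.swap ^ r = (p ^ r).swap from rfl, h1]
      rfl
    have he2 : (p * p.swap).2 = (p * p.swap).1 := by
      have := congrArg Prod.fst hc.eq
      exact this.symm
    refine ⟨(p * p.swap).1, hC.mem_of_fixed he hr hr2 hprim (congrArg Prod.fst hpow) (fun h1 => ?_)
      (fun c hc' => ?_), ?_⟩
    · exact hinv (Prod.ext h1 (he2.trans h1))
    · have := hC.oddPairs_preserves _ (hQO (Q.mul_mem hpQ (hQswap p hpQ))) c hc'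
      rwa [he2] at this
    · exact orderOf_eq_prime (congrArg Prod.fst hpow) fun h1 => hinv (Prod.ext h1 (he2.trans h1))

omit [Finite A] in
/-- A member of order three commutes with the whole set. -/
theorem commute_of_cube (hC : IsSpread C) {a : AddMonoid.End A} (ha : a ∈ C) (h3 : a ^ 3 = 1)
    (ha1 : a ≠ 1) (hpow : ∀ b ∈ C, b ≠ 0 → ∃ n : ℕ, b = (b * b) ^ n) :
    ∀ b ∈ C, a * b = b * a := by
  have hneg : ∀ x : AddMonoid.End A, -x = x := fun x => by
    rw [neg_eq_iff_add_eq_zero]
    exact DFunLike.ext _ _ fun v => hC.two _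
  have hsq : a * a = a + 1 := by
    obtain ⟨d, -, -, hd⟩ := hC.inv_mem _ (C.sub_mem ha hC.one_mem) (sub_ne_zero.2 ha1)
    have h0 : (a - 1) * (a * a + a + 1) = 0 := by
      rw [show (a - 1) * (a * a + a + 1) = a ^ 3 - 1 by noncomm_ring, h3, sub_self]
    have h1 : a * a + a + 1 = 0 := by
      have := congrArg (d * ·) h0
      simpa [← mul_assoc, hd] using this
    rw [← sub_eq_zero, sub_eq_add_neg, hneg]
    rw [← add_assoc]; exact h1
  intro b hb
  obtain ⟨X, hX⟩ : ∃ X, X = a * b + b * a := ⟨_, rfl⟩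
  have hXC : X ∈ C := by
    have h := C.sub_mem (C.sub_mem (hC.mul_mul_mem (C.add_mem ha hC.one_mem) hb)
      (hC.mul_mul_mem ha hb)) hb
    rwa [show (a + 1) * b * (a + 1) - a * b * a - b = X by rw [hX]; noncomm_ring] at h
  have hXa : a * X = X * (a * a) := by
    have ha3 : a * a * a = 1 := by rw [← h3]; noncomm_ring
    rw [hX, show a * (a * b + b * a) = (a * a) * b + a * b * a by noncomm_ring,
      show (a * b + b * a) * (a * a) = a * b * (a * a) + b * (a * a * a) by noncomm_ring, ha3, hsq]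
    noncomm_ring
  have hX0 : X = 0 := by
    by_contra hne
    obtain ⟨n, hn⟩ := hpow X hXC hne
    have hc : Commute a (X * X) := by
      change a * (X * X) = X * X * a
      have hl : ∀ t, a * (X * t) = X * (a * (a * t)) := fun t => by
        rw [← mul_assoc, hXa]; simp only [mul_assoc]
      calc a * (X * X) = X * X * (a * a * (a * a)) := by
            rw [hl, hXa, hl]; simp only [mul_assoc]
        _ = X * X * (a ^ 3 * a) := by noncomm_ring
        _ = _ := by rw [h3, one_mul]
    have hcX : a * X = X * a := by rw [hn]; exact hc.pow_right n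
    obtain ⟨d, -, -, hd⟩ := hC.inv_mem X hXC hne
    have h := congrArg (d * ·) (hcX.symm.trans hXa)
    simp only [← mul_assoc, hd, one_mul] at h
    have h' : a * a = a * 1 := by rw [mul_one]; exact h.symm
    obtain ⟨d', -, -, hd'⟩ := hC.inv_mem a ha (fun h0 => hC.one_ne_zero (by
      rw [← h3, h0, zero_pow (by norm_num)]))
    exact ha1 (by simpa [← mul_assoc, hd'] using congrArg (d' * ·) h')
  rw [hX] at hX0
  calc a * b = a * b + (b * a + b * a) := by
        rw [show b * a + b * a = 0 from DFunLike.ext _ _ fun v => hC.two _, add_zero]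
    _ = b * a := by rw [← add_assoc, hX0, zero_add]

/-- The theorem: an inversion-closed spread set containing `1` is commutative. -/
theorem commute (hC : IsSpread C) : ∀ a ∈ C, ∀ b ∈ C, a * b = b * a := by
  classical
  have := finite_units (A := A)
  have : Finite (AddMonoid.End A) := Finite.of_injective (fun f : AddMonoid.End A => (f : A → A))
    DFunLike.coe_injective
  have hnt := hC.nontrivial
  obtain ⟨e, he⟩ : ∃ e, Nat.card A = 2 ^ e := by
    obtain ⟨e, he⟩ := hC.exists_card_eq_two_pow ⊤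
    exact ⟨e, by rwa [AddSubgroup.card_top] at he⟩
  have he0 : e ≠ 0 := by
    rintro rfl
    exact Finite.one_lt_card.ne' he
  have hfinish : (∃ u : (AddMonoid.End A)ˣ, (u : AddMonoid.End A) ∈ C ∧
      ∀ i, 0 < i → i < e → ¬ orderOf u ∣ 2 ^ i - 1) → ∀ a ∈ C, ∀ b ∈ C, a * b = b * a := by
    rintro ⟨u, hu, hprim⟩ a ha b hb
    exact (hC.commute_of_order hu (fun i hi0 hi => hprim i hi0
      ((Nat.pow_lt_pow_iff_right (by norm_num : 1 < 2)).1 (he ▸ hi))) a ha b hb).1
  by_cases he1 : e = 1
  · exact hfinish ⟨1, hC.one_mem, fun i hi0 hi => by omega⟩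
  by_cases he6 : e = 6
  swap
  · obtain ⟨r, hr, hdvd, hprim⟩ := Zsigmondy.exists_primitive (a := 2) (n := e) (by norm_num)
      (by omega) (fun h => he6 h.2) (fun ⟨_, m, hm⟩ => by
        rcases m with _ | _ | m
        · norm_num at hm
        · norm_num at hm
        · have := Nat.le_self_pow (n := m + 2) (by omega) 2
          have h4 : 2 ^ (m + 2) = 4 * 2 ^ m := by ring
          have := Nat.one_le_two_pow (n := m)
          omega)
    obtain ⟨u, hu, hord⟩ := hC.exists_primitive_mem he hr hdvd hprim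
    exact hfinish ⟨u, hu, fun i hi0 hi => hord ▸ hprim i hi0 hi⟩
  subst he6
  -- `|A| = 64`
  by_cases hfull : ∃ u : (AddMonoid.End A)ˣ, (u : AddMonoid.End A) ∈ C ∧
      ∀ i, 0 < i → i < 6 → ¬ orderOf u ∣ 2 ^ i - 1
  · exact hfinish hfull
  have hnone : ∀ u : (AddMonoid.End A)ˣ, (u : AddMonoid.End A) ∈ C →
      ∃ i, 0 < i ∧ i < 6 ∧ orderOf u ∣ 2 ^ i - 1 := by
    intro u hu
    by_contra h
    push Not at h
    exact hfull ⟨u, hu, h⟩
  have hsmall : ∀ u : (AddMonoid.End A)ˣ, (u : AddMonoid.End A) ∈ C → u ≠ 1 →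
      orderOf u = 3 ∨ orderOf u = 7 := by
    intro u hu hu1
    obtain ⟨i, hi0, hi6, hdvd⟩ := hnone u hu
    have h63 := hC.orderOf_dvd hu
    rw [he] at h63
    have hn1 : orderOf u ≠ 1 := fun h => hu1 (orderOf_eq_one_iff.1 h)
    have hn := Nat.dvd_gcd hdvd h63
    interval_cases i <;> norm_num at hn
    all_goals first
      | exact absurd hn hn1
      | exact absurd hn hu1
      | (rcases (Nat.dvd_prime (by norm_num)).1 hn with h | h <;> omega)
  have hpow : ∀ b ∈ C, b ≠ 0 → ∃ n : ℕ, b = (b * b) ^ n := by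
    intro b hb hb0
    obtain ⟨v, rfl⟩ := hC.exists_unit hb hb0
    obtain ⟨m, hm⟩ := hC.odd_orderOf hb
    refine ⟨m + 1, ?_⟩
    rw [← Units.val_mul, ← Units.val_pow_eq_pow_val]
    congr 1
    rw [← pow_two, ← pow_mul, show 2 * (m + 1) = orderOf v + 1 by omega, pow_succ,
      pow_orderOf_eq_one, one_mul]
  let U := {u : (AddMonoid.End A)ˣ // (u : AddMonoid.End A) ∈ C ∧ u ≠ 1}
  have hcard : Nat.card U = 62 := by
    let ι : U → {c : ↥C // c ≠ 0 ∧ c ≠ ⟨1, hC.one_mem⟩} := fun u => ⟨⟨u.1, u.2.1⟩,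
      fun h => hC.one_ne_zero (by
        rw [← u.1.inv_mul, show (u.1 : AddMonoid.End A) = 0 from congrArg Subtype.val h, mul_zero]),
      fun h => u.2.2 (Units.ext (congrArg Subtype.val h))⟩
    have hbij : Function.Bijective ι := by
      refine ⟨fun u v h => Subtype.ext (Units.ext (congrArg (fun c => c.1.1) h)), fun c => ?_⟩
      obtain ⟨v, hv⟩ := hC.exists_unit c.1.2 fun h => c.2.1 (Subtype.ext h)
      exact ⟨⟨v, hv ▸ c.1.2, fun h => c.2.2 (Subtype.ext (by rw [← hv, h]; rfl))⟩,
        Subtype.ext (Subtype.ext hv)⟩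
    rw [Nat.card_congr (Equiv.ofBijective ι hbij)]
    have := Fintype.ofFinite ↥C
    rw [Nat.card_eq_fintype_card, Fintype.card_subtype,
      show (Finset.univ.filter fun c : ↥C => c ≠ 0 ∧ c ≠ ⟨1, hC.one_mem⟩) =
        (Finset.univ.erase 0).erase ⟨1, hC.one_mem⟩ by ext c; simp [and_comm]]
    rw [Finset.card_erase_of_mem, Finset.card_erase_of_mem (Finset.mem_univ _), Finset.card_univ,
      ← Nat.card_eq_fintype_card, hC.card_eq, he]
    · norm_num
    · exact Finset.mem_erase.2 ⟨fun h => hC.one_ne_zero (congrArg Subtype.val h), Finset.mem_univ _⟩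
  by_cases hall : ∀ u : U, orderOf u.1 = 3
  · -- every member is a central cube root of unity
    intro a ha b hb
    by_cases ha0 : a = 0
    · rw [ha0, zero_mul, mul_zero]
    obtain ⟨u, rfl⟩ := hC.exists_unit ha ha0
    by_cases hu1 : u = 1
    · rw [hu1, Units.val_one, one_mul, mul_one]
    refine hC.commute_of_cube ha ?_ (fun h => hu1 (Units.ext h)) hpow b hb
    rw [← Units.val_pow_eq_pow_val, ← hall ⟨u, ha, hu1⟩, pow_orderOf_eq_one, Units.val_one]
  exfalso
  push Not at hall
  obtain ⟨v, hv⟩ := hall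
  have hv7 : orderOf v.1 = 7 := (hsmall _ v.2.1 v.2.2).resolve_left hv
  by_cases h3 : ∃ u : U, orderOf u.1 = 3
  · obtain ⟨u, hu3⟩ := h3
    have hu3' : (u.1 : AddMonoid.End A) ^ 3 = 1 := by
      rw [← Units.val_pow_eq_pow_val, ← hu3, pow_orderOf_eq_one, Units.val_one]
    have hcen := hC.commute_of_cube u.2.1 hu3' (fun h => u.2.2 (Units.ext h)) hpow
    have hc : Commute u.1 v.1 := Units.ext (hcen _ v.2.1)
    have hm := hC.mul_mem_of_commute u.2.1 v.2.1 (hcen _ v.2.1)
    rw [← Units.val_mul] at hm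
    have h21 : orderOf (u.1 * v.1) = 21 := by
      rw [hc.orderOf_mul_eq_mul_orderOf_of_coprime (by rw [hu3, hv7]; norm_num), hu3, hv7]
    rcases hsmall _ hm (fun h => by rw [h, orderOf_one] at h21; omega) with h | h <;> omega
  · push Not at h3
    have h7 : ∀ u : U, orderOf u.1 = 7 := fun u => (hsmall _ u.2.1 u.2.2).resolve_left (h3 u)
    let f : U → U := fun u => ⟨u.1 * u.1,
      by rw [Units.val_mul]; exact hC.mul_mem_of_commute u.2.1 u.2.1 rfl,
      fun h => by
        have := orderOf_dvd_of_pow_eq_one (n := 2) (by rw [pow_two]; exact h : u.1 ^ 2 = 1)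
        rw [h7 u] at this; norm_num at this⟩
    have hf : ∀ u, f (f (f u)) = u := fun u => Subtype.ext (by
      change u.1 * u.1 * (u.1 * u.1) * (u.1 * u.1 * (u.1 * u.1)) = u.1
      have h := pow_orderOf_eq_one u.1
      rw [h7 u] at h
      calc u.1 * u.1 * (u.1 * u.1) * (u.1 * u.1 * (u.1 * u.1)) = u.1 ^ 7 * u.1 := by
            simp only [pow_succ, pow_zero, one_mul, mul_assoc]
        _ = u.1 := by rw [h, one_mul])
    let π : Equiv.Perm U := ⟨f, fun u => f (f u), hf, hf⟩
    have hπ : π ^ 3 ^ 1 = 1 := Equiv.ext fun u => hf u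
    have := Fintype.ofFinite U
    have := Fact.mk Nat.prime_three
    have hmod := Equiv.Perm.card_compl_support_modEq hπ
    rw [show π.supportᶜ = ∅ by
      rw [Finset.compl_eq_empty_iff]
      refine Finset.eq_univ_iff_forall.2 fun u => Equiv.Perm.mem_support.2 fun h => u.2.2 ?_
      exact mul_eq_left.1 (congrArg Subtype.val h), Finset.card_empty, ← Nat.card_eq_fintype_card,
      hcard] at hmod
    exact absurd hmod (by decide)

/-- `C` is closed under products. -/
theorem mul_mem (hC : IsSpread C) {a b : AddMonoid.End A} (ha : a ∈ C) (hb : b ∈ C) : a * b ∈ C :=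
  hC.mul_mem_of_commute ha hb (hC.commute a ha b hb)

end IsSpread

end Cfsg.Agent.SpreadField
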