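/-
The plane over the field given by a spread set: the group generated by its elations is `SL(2, q)`.
Main definitions: `upPerm`, `loPerm`; main result: `IsSpread.exists_sl2`.
-/
import Cfsg.Agent.Lib.SpreadField.Commute
import Cfsg.Agent.Lib.RankOne.SL2
import Mathlib.Algebra.Field.TransferInstance

set_option autoImplicit false

namespace Cfsg.Agent.SpreadField

universe u

variable {A : Type u} [AddCommGroup A]

/-- `(a, b) ↦ (a + c b, b)`. -/
def upPerm (c : AddMonoid.End A) : Equiv.Perm (A × A) where
  toFun p := (p.1 + c p.2, p.2)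
  invFun p := (p.1 - c p.2, p.2)
  left_inv p := by simp
  right_inv p := by simp

/-- `(a, b) ↦ (a, c a + b)`. -/
def loPerm (c : AddMonoid.End A) : Equiv.Perm (A × A) where
  toFun p := (p.1, c p.1 + p.2)
  invFun p := (p.1, p.2 - c p.1)
  left_inv p := by simp
  right_inv p := by simp

/-- The subring formed by a spread set. -/
def spreadRing [Finite A] {C : AddSubgroup (AddMonoid.End A)} (hC : IsSpread C) :
    Subring (AddMonoid.End A) :=
  { C with
    one_mem' := hC.one_mem
    mul_mem' := fun ha hb => hC.mul_mem ha hb }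

theorem spreadRing_isField [Finite A] {C : AddSubgroup (AddMonoid.End A)} (hC : IsSpread C) :
    IsField ↥(spreadRing hC) where
  exists_pair_ne := ⟨0, 1, fun h => hC.one_ne_zero (congrArg Subtype.val h).symm⟩
  mul_comm a b := Subtype.ext (hC.commute a.1 a.2 b.1 b.2)
  mul_inv_cancel {a} ha := by
    obtain ⟨d, hd, h, -⟩ := hC.inv_mem a.1 a.2 fun e => ha (Subtype.ext e)
    exact ⟨⟨d, hd⟩, Subtype.ext h⟩

/-- A copy of `Fin n` without arithmetic. -/
structure SmallWrap (n : ℕ) where
  val : Fin n

instance (n : ℕ) : Finite (SmallWrap n) :=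
  Finite.of_injective SmallWrap.val fun ⟨_⟩ ⟨_⟩ h => congrArg SmallWrap.mk h

/-- A finite field is isomorphic to one in `Type`. -/
theorem exists_small_field (K : Type u) [Field K] [Finite K] :
    ∃ (F : Type) (_ : Field F) (_ : Fintype F), Nonempty (F ≃+* K) := by
  let e : SmallWrap (Nat.card K) ≃ K :=
    (⟨SmallWrap.val, SmallWrap.mk, fun _ => rfl, fun _ => rfl⟩ : SmallWrap (Nat.card K) ≃ Fin (Nat.card K)).trans
      (Finite.equivFin K).symm
  let _ : Field (SmallWrap (Nat.card K)) := e.field
  exact ⟨SmallWrap (Nat.card K), inferInstance, Fintype.ofFinite _,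
    ⟨{ e with
        map_mul' := fun _ _ => e.apply_symm_apply _
        map_add' := fun _ _ => e.apply_symm_apply _ }⟩⟩

/-- The natural action of `SL(2, F)` on the plane. -/
theorem IsSpread.exists_sl2 [Finite A] {C : AddSubgroup (AddMonoid.End A)} (hC : IsSpread C) :
    ∃ (F : Type) (_ : Field F) (_ : Fintype F), Fintype.card F = Nat.card A ∧
      ∀ {H : Type u} [Group H] (f : H →* Equiv.Perm (A × A)),
        f.range = Subgroup.closure ({σ | ∃ c ∈ C, σ = upPerm c} ∪ {σ | ∃ c ∈ C, σ = loPerm c}) →
          Nonempty (H ⧸ f.ker ≃* Matrix.SpecialLinearGroup (Fin 2) F) := by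
  classical
  have : Finite (AddMonoid.End A) := Finite.of_injective (fun f : AddMonoid.End A => (f : A → A))
    DFunLike.coe_injective
  let _ : Field ↥(spreadRing hC) := (spreadRing_isField hC).toField
  obtain ⟨F, _, _, ⟨ε⟩⟩ := exists_small_field ↥(spreadRing hC)
  refine ⟨F, inferInstance, inferInstance, ?_, fun {H} _ f hf => ?_⟩
  · rw [← Nat.card_eq_fintype_card, Nat.card_congr ε.toEquiv, ← hC.card_eq]
    exact Nat.card_congr (Equiv.subtypeEquivRight fun _ => Iff.rfl)
  -- the scalar action
  let θ : F →+* AddMonoid.End A := (spreadRing hC).subtype.comp ε.toRingHom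
  have hθC : ∀ t, θ t ∈ C := fun t => (ε t).2
  have hθsurj : ∀ c ∈ C, ∃ t, θ t = c := fun c hc => ⟨ε.symm ⟨c, hc⟩, congrArg Subtype.val (ε.apply_symm_apply _)⟩
  have hθinj : Function.Injective θ := fun a b h => ε.injective (Subtype.ext h)
  have hθmul : ∀ s t a, θ (s * t) a = θ s (θ t a) := fun s t a => by rw [map_mul]; rfl
  have hθadd : ∀ s t a, θ (s + t) a = θ s a + θ t a := fun s t a => by rw [map_add]; rfl
  let act : Matrix (Fin 2) (Fin 2) F → A × A → A × A := fun g p =>
    (θ (g 0 0) p.1 + θ (g 0 1) p.2, θ (g 1 0) p.1 + θ (g 1 1) p.2)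
  have hact1 : ∀ p, act 1 p = p := fun p => by
    simp [act]
  have hactmul : ∀ g h p, act (g * h) p = act g (act h p) := fun g h p => by
    simp only [act, Matrix.mul_apply, Fin.sum_univ_two]
    refine Prod.ext ?_ ?_ <;> simp only [hθadd, hθmul] <;> simp only [map_add] <;> abel
  let ρ : Matrix.SpecialLinearGroup (Fin 2) F →* Equiv.Perm (A × A) :=
    { toFun := fun g =>
        { toFun := act g.1
          invFun := act (g⁻¹ : Matrix.SpecialLinearGroup (Fin 2) F).1
          left_inv := fun p => by
            rw [← hactmul, ← Matrix.SpecialLinearGroup.coe_mul, inv_mul_cancel,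
              Matrix.SpecialLinearGroup.coe_one, hact1]
          right_inv := fun p => by
            rw [← hactmul, ← Matrix.SpecialLinearGroup.coe_mul, mul_inv_cancel,
              Matrix.SpecialLinearGroup.coe_one, hact1] }
      map_one' := Equiv.ext fun p => by
        change act (1 : Matrix.SpecialLinearGroup (Fin 2) F).1 p = p
        rw [Matrix.SpecialLinearGroup.coe_one, hact1]
      map_mul' := fun g h => Equiv.ext fun p => by
        change act (g * h).1 p = act g.1 (act h.1 p)
        rw [Matrix.SpecialLinearGroup.coe_mul, hactmul] }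
  have hρinj : Function.Injective ρ := by
    intro g h hgh
    refine Subtype.ext (Matrix.ext fun i j => ?_)
    have h0 : ∀ a, θ (g.1 i j) a = θ (h.1 i j) a := by
      intro a
      have e1 := Equiv.congr_fun hgh (a, 0)
      have e2 := Equiv.congr_fun hgh (0, a)
      fin_cases i <;> fin_cases j
      · simpa [ρ, act] using congrArg Prod.fst e1
      · simpa [ρ, act] using congrArg Prod.fst e2
      · simpa [ρ, act] using congrArg Prod.snd e1
      · simpa [ρ, act] using congrArg Prod.snd e2
    exact hθinj (DFunLike.ext _ _ h0)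
  have hup : ∀ t, ρ (RankOne.upSL t) = upPerm (θ t) := fun t => Equiv.ext fun p => by
    change act (RankOne.upSL t).1 p = _
    simp [act, RankOne.coe_upSL, upPerm]
  have hlo : ∀ t, ρ (RankOne.loSL t) = loPerm (θ t) := fun t => Equiv.ext fun p => by
    change act (RankOne.loSL t).1 p = _
    simp [act, RankOne.coe_loSL, loPerm]
  have hrange : ρ.range = f.range := by
    rw [hf]
    refine le_antisymm ?_ ((Subgroup.closure_le _).2 ?_)
    · rw [MonoidHom.range_eq_map, ← RankOne.lower_sup_upper, Subgroup.map_sup, sup_le_iff]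
      constructor <;> rintro _ ⟨g, hg, rfl⟩
      · obtain ⟨t, rfl⟩ := RankOne.mem_lowerUnipotentSL2.1 hg
        exact Subgroup.subset_closure (Or.inr ⟨_, hθC t, hlo t⟩)
      · obtain ⟨t, rfl⟩ := RankOne.mem_upperUnipotentSL2.1 hg
        exact Subgroup.subset_closure (Or.inl ⟨_, hθC t, hup t⟩)
    · rintro σ (⟨c, hc, rfl⟩ | ⟨c, hc, rfl⟩) <;> obtain ⟨t, rfl⟩ := hθsurj c hc
      · exact ⟨_, hup t⟩
      · exact ⟨_, hlo t⟩
  exact ⟨(QuotientGroup.quotientKerEquivRange f).trans
    ((MulEquiv.subgroupCongr hrange.symm).trans (MonoidHom.ofInjective hρinj).symm)⟩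

end Cfsg.Agent.SpreadField
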